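import Cfsg.Agent.J4Index22.Data.F0
import Cfsg.Agent.J4Index22.Data.F1
import Cfsg.Agent.J4Index22.Data.F2
import Cfsg.Agent.J4Index22.Data.F3
import Cfsg.Agent.J4Index22.Data.F4
import Cfsg.Agent.J4Index22.Data.F5
import Cfsg.Agent.J4Index22.Data.F6
import Cfsg.Agent.J4Index22.Data.F7
import Cfsg.Agent.J4Index22.Data.F8
import Cfsg.Agent.J4Index22.Data.F9
import Cfsg.Agent.J4Index22.Data.F10
import Cfsg.Agent.J4Index22.Data.F11
import Cfsg.Agent.J4Index22.Data.F12
import Cfsg.Agent.J4Index22.Data.F13
import Cfsg.Agent.J4Index22.Data.F14
import Cfsg.Agent.J4Index22.Data.F15
import Cfsg.Agent.J4Index22.Data.F16
import Cfsg.Agent.J4Index22.Data.F17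
import Cfsg.Agent.J4Index22.Data.F18
import Cfsg.Agent.J4Index22.Data.F19
import Cfsg.Agent.J4Index22.Data.F20
import Cfsg.Agent.J4Index22.Data.F21

/-! Generated data: the certificate. -/

set_option autoImplicit false
set_option Elab.async false
set_option maxRecDepth 100000
set_option maxHeartbeats 4000000

namespace CfsgLib.J4Index22.Tab

open CfsgLib.DCert22

/-- all facts -/
def facts : Store := (.node 2816 (.node 1280 (.node 512 (.node 256 f0 f1) (.node 256 f2 (.node 256 f3 f4))) (.node 768 (.node 256 f5 (.node 256 f6 f7)) (.node 256 f8 (.node 256 f9 f10)))) (.node 1280 (.node 512 (.node 256 f11 f12) (.node 256 f13 (.node 256 f14 f15))) (.node 768 (.node 256 f16 (.node 256 f17 f18)) (.node 256 f19 (.node 256 f20 f21)))))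

/-- the certificate -/
def cert : Cert where
  facts := facts
  nodes := [(0, 984818244535754528103549039458486304), (1, 212091476967768398485868053659158564), (1, 926913253849402106339272149263699684), (2, 588376757413640417474705899024788128), (2, 212091476967768398485868053659158564), (2, 72026740130555905197777611678897321), (2, 926913253849402106339272149263699684), (2, 309731891092462690891832192110631469), (4, 937465969208772806734937146208275824), (9, 920966427278926207314805097313324704), (5, 506633882449150105768437775414644822), (11, 668810419814651312037686925556648417), (12, 751807652678539436886300112732685515), (13, 313614720974687301479055536354428968), (12, 48663945758308300432890900463038704), (12, 212091476967768398485868053659158564), (14, 276595605265784385300849243643515269), (17, 937360890940357767962566916970894756), (18, 861539955089163932998354797258424615)]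
  rels := [(958207117360034632076592636392218656, [958207117360034632076592636392218656, 958207117360034632076592636392218656, 984818244535754528103549039458486304]), (958207117360034632076592636392218656, [958207117360034632076592636392218656, 958207117360034632076592636392218656, 984818244535754528103549039458486304]), (958207117360034632076592636392218656, [958207117360034632076592636392218656, 958207117360034632076592636392218656, 984818244535754528103549039458486304]), (355810138178621634689481740747152687, [894583895191092869486621235461129930, 355810138178621634689481740747152687, 894583895191092869486621235461129930, 984818244535754528103549039458486304]), (894583895191092869486621235461129930, [355810138178621634689481740747152687, 894583895191092869486621235461129930, 355810138178621634689481740747152687, 984818244535754528103549039458486304]), (355810138178621634689481740747152687, [894583895191092869486621235461129930, 355810138178621634689481740747152687, 894583895191092869486621235461129930, 984818244535754528103549039458486304]), (894583895191092869486621235461129930, [355810138178621634689481740747152687, 894583895191092869486621235461129930, 355810138178621634689481740747152687, 984818244535754528103549039458486304])]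
  subs := [(605160538740898296632800062936002788, []), (212091476967768398485868053659158564, []), (717170412119959701670650289119976677, [800482357134437614542512724635156545, 800482357134437614542512724635156545, 9226484219828445988477679618998597])]

/-- number of facts -/
def nfacts : ℕ := 5626

end CfsgLib.J4Index22.Tab
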